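import Groth.Agent.DepthAlong6.FibreAff
import Groth.Agent.Codepth5.ConsScheme
import Groth.Agent.SpecLib.Constr
import Groth.Prelude.Def_CInt

/-!
# Depth of the fibres along a closed subset of a scheme
-/

set_option autoImplicit false
set_option linter.style.haveILetI false
set_option backward.isDefEq.respectTransparency false
set_option backward.isDefEq.respectTransparency.types false

universe u

open AlgebraicGeometry CategoryTheory TopologicalSpace Topology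

namespace Groth.Agent.DepthAlong6

open Codepth5

variable {X Y : Scheme.{u}} (f : X ⟶ Y) (F : X.Modules) (Z : Closeds ↥X)
variable {U : X.Opens} (hU : IsAffineOpen U) {V : Y.Opens} (hV : IsAffineOpen V) (hle : U ≤ f ⁻¹ᵁ V)

/-- The ideal of the trace of a closed subset on an affine open. -/
noncomputable def traceIdeal (Z : Closeds ↥X) (hU : IsAffineOpen U) : Ideal Γ(X, U) :=
  PrimeSpectrum.vanishingIdeal (hU.fromSpec ⁻¹' (Z : Set X))

theorem mem_iff_traceIdeal_le {z : X} (hz : z ∈ U) :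
    z ∈ Z ↔ traceIdeal Z hU ≤ (hU.primeIdealOf ⟨z, hz⟩).asIdeal := by
  have h : IsClosed (hU.fromSpec ⁻¹' (Z : Set X)) := Z.isClosed.preimage hU.fromSpec.continuous
  have h1 : hU.primeIdealOf ⟨z, hz⟩ ∈ PrimeSpectrum.zeroLocus (traceIdeal Z hU : Set Γ(X, U)) ↔
      traceIdeal Z hU ≤ (hU.primeIdealOf ⟨z, hz⟩).asIdeal := Iff.rfl
  rw [← h1, traceIdeal, PrimeSpectrum.zeroLocus_vanishingIdeal_eq_closure, h.closure_eq, Set.mem_preimage,
    hU.fromSpec_primeIdealOf]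
  rfl

include hV in
theorem fiberDepth_chart (hF : CohB1.IsFP F) {x : X} (hx : x ∈ U) :
    letI := (f.appLE V U hle).hom.toAlgebra
    CInt.fiberDepth f F x =
      (dd (Localization.AtPrime (hU.primeIdealOf ⟨x, hx⟩).asIdeal)
        (EGA4.FibLocMod Γ(Y, V) Γ(X, U) (hU.primeIdealOf ⟨x, hx⟩).asIdeal Γ(F, U))).2 := by
  letI := (f.appLE V U hle).hom.toAlgebra
  have h := congrArg Prod.snd (semi_fibre_chart f F hU hV hle hF (f.asFiber x) hx (f.fiberι_asFiber x)).dd_eq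
  rw [h]
  rfl

include hV in
theorem le_fiberDepthAlong_iff (hF : CohB1.IsFP F) (n : ℕ) {y : X} (hy : y ∈ U) {J : Set Γ(X, U)}
    (hJ : ∀ z (hz : z ∈ U), z ∈ Z ↔ J ⊆ (hU.primeIdealOf ⟨z, hz⟩).asIdeal) :
    letI := (f.appLE V U hle).hom.toAlgebra
    (n : ℕ∞) ≤ CInt.fiberDepthAlong f F (Z : Set X) y ↔
      DA Γ(Y, V) Γ(F, U) J n (hU.primeIdealOf ⟨y, hy⟩) := by
  letI := (f.appLE V U hle).hom.toAlgebra
  constructor
  · intro h t htf ht hJt
    have ha : hU.fromSpec t ∈ U := (Set.ext_iff.1 hU.range_fromSpec _).1 (Set.mem_range_self t)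
    have he : hU.primeIdealOf ⟨hU.fromSpec t, ha⟩ = t :=
      hU.fromSpec.isOpenEmbedding.injective (hU.fromSpec_primeIdealOf ⟨_, ha⟩)
    generalize hU.fromSpec t = a at ha he
    subst he
    rw [← fiberDepth_chart f F hU hV hle hF ha]
    exact h.trans (iInf_le_of_le (⟨a, (hJ a ha).2 hJt, (primeIdealOf_le_iff hU ha hy).1 ht,
      (comap_eq_iff f hU hV hle ha hy).1 htf⟩ : {z : X // z ∈ (Z : Set X) ∧ z ⤳ y ∧ f.base z = f.base y}) le_rfl)
  · intro h
    refine le_iInf fun z => ?_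
    obtain ⟨z, hzZ, hzy, hfz⟩ := z
    have hz : z ∈ U := hzy.mem_open U.isOpen hy
    rw [fiberDepth_chart f F hU hV hle hF hz]
    exact h _ ((comap_eq_iff f hU hV hle hz hy).2 hfz) ((primeIdealOf_le_iff hU hz hy).2 hzy) ((hJ z hz).1 hzZ)

variable [LocallyOfFinitePresentation f]

theorem isOpen_fiberDepthAlong (hF : CohB1.IsFP F) (hflat : FlatMod.IsFlatOver f F) (n : ℕ) :
    IsOpen {x : X | (n : ℕ∞) ≤ CInt.fiberDepthAlong f F (Z : Set X) x} := by
  refine isOpen_of_charts f _ fun U hU V hV hle => ?_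
  letI : Algebra Γ(Y, V) Γ(X, U) := (f.appLE V U hle).hom.toAlgebra
  haveI : Algebra.FinitePresentation Γ(Y, V) Γ(X, U) := f.finitePresentation_appLE hV hU hle
  letI : Module Γ(Y, V) Γ(F, U) := Module.compHom _ (f.appLE V U hle).hom
  haveI : IsScalarTower Γ(Y, V) Γ(X, U) Γ(F, U) := IsScalarTower.of_algebraMap_smul fun _ _ => rfl
  haveI := QCoh.finitePresentation_of_isFP hF hU
  haveI : Module.Flat Γ(Y, V) Γ(F, U) :=
    (QCoh.flat_appLE_iff f (QCoh.isQCoh_of_isFP hF) hU hV hle).2 fun z _ => hflat z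
  exact ⟨_, isOpen_DA Γ(F, U) (traceIdeal Z hU : Set Γ(X, U)) n, fun z hz =>
    le_fiberDepthAlong_iff f F Z hU hV hle hF n hz fun w hw => mem_iff_traceIdeal_le Z hU hw⟩

/-- A constructible closed subset is cut out by finitely many functions on an affine open. -/
theorem exists_fg_trace (hZ : IsLocallyConstructible (Z : Set X)) (hU : IsAffineOpen U) :
    ∃ (m : ℕ) (s : Fin m → Γ(X, U)), ∀ z (hz : z ∈ U), z ∈ Z ↔ Set.range s ⊆ (hU.primeIdealOf ⟨z, hz⟩).asIdeal := by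
  have hc : IsConstructible (hU.fromSpec ⁻¹' (Z : Set X)) :=
    (hZ.preimage_of_isOpenEmbedding hU.fromSpec.isOpenEmbedding).isConstructible
  have hcl : IsClosed (hU.fromSpec ⁻¹' (Z : Set X)) := Z.isClosed.preimage hU.fromSpec.continuous
  have hcomp : IsCompact (hU.fromSpec ⁻¹' (Z : Set X))ᶜ :=
    (SpecLib.isRetrocompact_of_isConstructible hc.compl).isCompact
  obtain ⟨I, hI, hI'⟩ := PrimeSpectrum.isCompact_isOpen_iff_ideal.1 ⟨hcomp, hcl.isOpen_compl⟩
  obtain ⟨m, s, hs⟩ := Submodule.fg_iff_exists_fin_generating_family.1 hI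
  refine ⟨m, s, fun z hz => ?_⟩
  have h1 := Set.ext_iff.1 hI' (hU.primeIdealOf ⟨z, hz⟩)
  simp only [Set.mem_compl_iff, not_iff_not, Set.mem_preimage] at h1
  rw [hU.fromSpec_primeIdealOf] at h1
  refine (show z ∈ Z ↔ z ∈ (Z : Set X) from Iff.rfl).trans (h1.symm.trans ?_)
  rw [← hs]
  exact Submodule.span_le

include hV hle in
theorem isConstructible_chart (hF : CohB1.IsFP F) (hZ : IsLocallyConstructible (Z : Set X)) (hU : IsAffineOpen U)
    (n : ℕ) :
    ∃ S : Set (PrimeSpectrum Γ(X, U)), IsConstructible S ∧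
      ∀ z (hz : z ∈ U), (n : ℕ∞) ≤ CInt.fiberDepthAlong f F (Z : Set X) z ↔ hU.primeIdealOf ⟨z, hz⟩ ∈ S := by
  letI : Algebra Γ(Y, V) Γ(X, U) := (f.appLE V U hle).hom.toAlgebra
  haveI : Algebra.FinitePresentation Γ(Y, V) Γ(X, U) := f.finitePresentation_appLE hV hU hle
  haveI := QCoh.finitePresentation_of_isFP hF hU
  obtain ⟨m, s, hs⟩ := exists_fg_trace Z hZ hU
  exact ⟨_, isConstructible_DA (A := Γ(Y, V)) Γ(F, U) s n, fun z hz =>
    le_fiberDepthAlong_iff f F Z hU hV hle hF n hz hs⟩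

theorem isLC_fiberDepthAlong (hF : CohB1.IsFP F) (hZ : IsLocallyConstructible (Z : Set X)) (n : ℕ) :
    IsLocallyConstructible {x : X | (n : ℕ∞) ≤ CInt.fiberDepthAlong f F (Z : Set X) x} :=
  isLC_of_charts f _ fun _ hU _ hV hle => isConstructible_chart f F Z hV hle hF hZ hU n

include hV hle in
theorem exists_bound_chart (hF : CohB1.IsFP F) (hU : IsAffineOpen U) :
    ∃ N : ℕ, ∀ x, x ∈ U → ∀ n : ℕ, N < n → (n : ℕ∞) ≤ CInt.fiberDepth f F x → CInt.fiberDepth f F x = ⊤ := by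
  letI : Algebra Γ(Y, V) Γ(X, U) := (f.appLE V U hle).hom.toAlgebra
  haveI : Algebra.FinitePresentation Γ(Y, V) Γ(X, U) := f.finitePresentation_appLE hV hU hle
  haveI := QCoh.finitePresentation_of_isFP hF hU
  obtain ⟨N, hN⟩ := exists_bound (A := Γ(Y, V)) (B := Γ(X, U)) Γ(F, U)
  refine ⟨N, fun x hx n hn h => ?_⟩
  rw [fiberDepth_chart f F hU hV hle hF hx] at h ⊢
  exact hN _ n hn h

include hV hle in
theorem fiberDepthAlong_eq_top (hF : CohB1.IsFP F) (hU : IsAffineOpen U) :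
    ∃ N : ℕ, ∀ y, y ∈ U → ((N + 1 : ℕ) : ℕ∞) ≤ CInt.fiberDepthAlong f F (Z : Set X) y →
      CInt.fiberDepthAlong f F (Z : Set X) y = ⊤ := by
  obtain ⟨N, hN⟩ := exists_bound_chart f F hV hle hF hU
  refine ⟨N, fun y hy h => ?_⟩
  refine iInf_eq_top.2 fun z => ?_
  exact hN z.1 (z.2.2.1.mem_open U.isOpen hy) (N + 1) N.lt_succ_self (h.trans (iInf_le _ z))

/-- Locally constructible sets are retrocompact. -/
theorem isRetrocompact_of_isLC {T : Scheme.{u}} {E : Set T} (hE : IsLocallyConstructible E) : IsRetrocompact E := by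
  intro W hW hWo
  obtain ⟨s, hs, hWs⟩ : ∃ s : Set T.Opens, (∀ O ∈ s, IsAffineOpen O ∧ (O : Set T) ⊆ W) ∧ s.Finite ∧
      W = ⋃ O ∈ s, (O : Set T) := by
    choose O hO hxO hOW using fun x : W => exists_isAffineOpen_mem_and_subset (U := ⟨W, hWo⟩) (x := x.1) x.2
    obtain ⟨σ, hσ⟩ := hW.elim_finite_subcover (fun x : W => (O x : Set T)) (fun x => (O x).isOpen)
      fun x hx => Set.mem_iUnion.2 ⟨⟨x, hx⟩, hxO ⟨x, hx⟩⟩
    refine ⟨O '' (σ : Set W), ?_, σ.finite_toSet.image O, ?_⟩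
    · rintro _ ⟨x, -, rfl⟩; exact ⟨hO x, hOW x⟩
    · refine Set.Subset.antisymm (fun x hx => ?_) ?_
      · obtain ⟨i, hi, hxi⟩ := Set.mem_iUnion₂.1 (hσ hx)
        exact Set.mem_biUnion ⟨i, hi, rfl⟩ hxi
      · refine Set.iUnion₂_subset ?_
        rintro _ ⟨x, -, rfl⟩
        exact hOW x
  rw [hWs.2, Set.inter_iUnion₂]
  refine hWs.1.isCompact_biUnion fun O hO => ?_
  obtain ⟨hOa, -⟩ := hs O hO
  have hc : IsCompact (hOa.fromSpec ⁻¹' E) :=
    (SpecLib.isRetrocompact_of_isConstructible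
      (hE.preimage_of_isOpenEmbedding hOa.fromSpec.isOpenEmbedding).isConstructible).isCompact
  have := hc.image hOa.fromSpec.continuous
  rwa [Set.image_preimage_eq_inter_range, hOa.range_fromSpec] at this

end Groth.Agent.DepthAlong6
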