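import Groth.Agent.Codepth5.ConsAff

/-!
# Depth of the fibres along a closed subset: openness and constructibility on affine charts
-/

set_option autoImplicit false
set_option linter.style.haveILetI false
set_option backward.isDefEq.respectTransparency false
set_option backward.isDefEq.respectTransparency.types false

universe u

open TensorProduct Topology

namespace Groth.Agent.DepthAlong6

open Codepth5 Groth.Agent.RegLoc6
open FibDim (fib)

/-- The depth of the fibre is at least `n` at the generizations of `q` in its fibre containing `J`. -/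
def DA (A : Type u) {B : Type u} [CommRing A] [CommRing B] [Algebra A B] (M : Type u) [AddCommGroup M]
    [Module B M] (J : Set B) (n : ℕ) (q : PrimeSpectrum B) : Prop :=
  ∀ t : PrimeSpectrum B, PrimeSpectrum.comap (algebraMap A B) t = PrimeSpectrum.comap (algebraMap A B) q →
    t ≤ q → J ⊆ t.asIdeal → (n : ℕ∞) ≤ (dd (Localization.AtPrime t.asIdeal) (EGA4.FibLocMod A B t.asIdeal M)).2

section Poly

variable {R : Type u} [CommRing R] {N : ℕ}
variable (M : Type u) [AddCommGroup M] [Module (MvPolynomial (Fin N) R) M] [Module.Finite (MvPolynomial (Fin N) R) M]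

local notation "O" q:max => EGA4.FibLocRing R (MvPolynomial (Fin N) R) (PrimeSpectrum.asIdeal q)

/-- Finite values of the depth of the fibres are at most the number of variables. -/
theorem dd_snd_cases (t : PrimeSpectrum (MvPolynomial (Fin N) R)) (n : ℕ) (hn : N < n)
    (h : (n : ℕ∞) ≤ (dd (Localization.AtPrime t.asIdeal) (EGA4.FibLocMod R (MvPolynomial (Fin N) R) t.asIdeal M)).2) :
    (dd (Localization.AtPrime t.asIdeal) (EGA4.FibLocMod R (MvPolynomial (Fin N) R) t.asIdeal M)).2 = ⊤ := by
  rcases exists_invariants M t with ⟨-, hdd, -⟩ | ⟨d, D, a, haD, hDd, hdN, -, hdd, -, -, -⟩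
  · rw [hdd]
  · rw [hdd] at h
    dsimp only at h
    have : n ≤ a := by exact_mod_cast h
    omega

variable [Module R M] [IsScalarTower R (MvPolynomial (Fin N) R) M] [Module.FinitePresentation (MvPolynomial (Fin N) R) M]
  [Module.Flat R M]

/-- The loci of depth at least `n` along a closed subset are open. -/
theorem isOpen_DA_poly (J : Set (MvPolynomial (Fin N) R)) (n : ℕ) :
    IsOpen {q : PrimeSpectrum (MvPolynomial (Fin N) R) | DA R M J n q} := by
  let C : ℕ → Set (PrimeSpectrum (MvPolynomial (Fin N) R)) := fun e =>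
    (Module.support (MvPolynomial (Fin N) R) M ∩ ⋂ j ∈ Finset.range e,
      {q | PdLE (O q) j ((O q) ⊗[MvPolynomial (Fin N) R] M)}ᶜ) ∩ PrimeSpectrum.zeroLocus J
  have hC : ∀ e, IsClosed (C e) := fun e =>
    ((Module.isClosed_support).inter (isClosed_biInter fun j _ =>
      (isOpen_pdLE (A := R) (B := MvPolynomial (Fin N) R) j M).isClosed_compl)).inter
      (PrimeSpectrum.isClosed_zeroLocus J)
  choose I hI using fun e => (PrimeSpectrum.isClosed_iff_zeroLocus_ideal (C e)).1 (hC e)
  have hCI : ∀ e, Module.support (MvPolynomial (Fin N) R) (MvPolynomial (Fin N) R ⧸ I e) = C e := fun e => by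
    rw [Module.support_eq_zeroLocus, Ideal.annihilator_quotient, ← hI e]
  have key : ∀ z : PrimeSpectrum (MvPolynomial (Fin N) R),
      (J ⊆ z.asIdeal → (n : ℕ∞) ≤
        (dd (Localization.AtPrime z.asIdeal) (EGA4.FibLocMod R (MvPolynomial (Fin N) R) z.asIdeal M)).2) ↔
      ∀ e, e ≤ N → z ∈ C e → ((e + n : ℕ) : ℕ∞) ≤ Order.height (⟨z, rfl⟩ :
        ↥(fib (B := MvPolynomial (Fin N) R) (PrimeSpectrum.comap (algebraMap R (MvPolynomial (Fin N) R)) z))) := by
    intro z
    rcases exists_invariants M z with ⟨hns, hdd, -⟩ | ⟨d, D, a, haD, hDd, hdN, hs, hdd, hh, hW, -⟩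
    · rw [hdd]
      exact iff_of_true (fun _ => le_top) fun e _ he => absurd he.1.1 hns
    have hCe : ∀ e, z ∈ C e ↔ J ⊆ z.asIdeal ∧ ∀ j < e, ¬ d ≤ a + j := fun e => by
      simp [C, hs, hW, and_comm]
    rw [hdd, hh]
    dsimp only
    constructor
    · intro h e heN he
      obtain ⟨hJ, he⟩ := (hCe e).1 he
      have hna : n ≤ a := by exact_mod_cast h hJ
      rcases Nat.eq_zero_or_pos e with rfl | hpos
      · exact_mod_cast (show 0 + n ≤ d by omega)
      · have := he (e - 1) (by omega)
        exact_mod_cast (show e + n ≤ d by omega)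
    · intro h hJ
      have h1 := h (d - a) (by omega) ((hCe _).2 ⟨hJ, fun j hj => by omega⟩)
      have h2 : d - a + n ≤ d := by exact_mod_cast h1
      exact_mod_cast (show n ≤ a by omega)
  have heq : {q : PrimeSpectrum (MvPolynomial (Fin N) R) | DA R M J n q} =
      ⋂ e ∈ Set.Iic N,
        {q | ∀ t : ↥(fib (B := MvPolynomial (Fin N) R)
          (PrimeSpectrum.comap (algebraMap R (MvPolynomial (Fin N) R)) q)),
          t.1 ≤ q → t.1 ∈ Module.support (MvPolynomial (Fin N) R) (MvPolynomial (Fin N) R ⧸ I e) →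
            ((e + n : ℕ) : ℕ∞) ≤ Order.height t + (0 : ℕ)} := by
    ext q
    simp only [Set.mem_iInter, Set.mem_ofPred_eq, hCI, Set.mem_Iic]
    refine ⟨fun h e heN t ht htC => ?_, fun h t htf ht hJ => ?_⟩
    · rw [Nat.cast_zero, add_zero, height_congr_fib t.2.symm t ⟨t.1, rfl⟩ rfl]
      exact (key t.1).1 (h t.1 t.2 ht) e heN htC
    · refine (key t).2 (fun e heN htC => ?_) hJ
      have := h e heN ⟨t, htf⟩ ht htC
      rwa [Nat.cast_zero, add_zero, height_congr_fib htf.symm ⟨t, htf⟩ ⟨t, rfl⟩ rfl] at this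
  rw [heq]
  exact (Set.finite_Iic N).isOpen_biInter fun e _ => isOpen_codim _ _ 0

end Poly

section BC

variable {N : ℕ} {A A' : Type u} [CommRing A] [CommRing A'] [Algebra A A']
variable (M : Type u) [AddCommGroup M] [Module (MvPolynomial (Fin N) A) M] [Module.Finite (MvPolynomial (Fin N) A) M]

attribute [local instance] MvPolynomial.algebraMvPolynomial

theorem X_mem_comap_iff (j : Fin N) (t' : PrimeSpectrum (MvPolynomial (Fin N) A')) :
    MvPolynomial.X j ∈ (PrimeSpectrum.comap (algebraMap (MvPolynomial (Fin N) A) (MvPolynomial (Fin N) A')) t').asIdeal ↔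
      MvPolynomial.X j ∈ t'.asIdeal := by
  show algebraMap (MvPolynomial (Fin N) A) (MvPolynomial (Fin N) A') (MvPolynomial.X j) ∈ t'.asIdeal ↔ _
  rw [MvPolynomial.algebraMap_def, MvPolynomial.map_X]

theorem DA_bc (S : Set (Fin N)) (n : ℕ) (q' : PrimeSpectrum (MvPolynomial (Fin N) A')) :
    DA A' (bcMod (N := N) (A := A) M A') (MvPolynomial.X '' S) n q' ↔
      DA A M (MvPolynomial.X '' S) n
        (PrimeSpectrum.comap (algebraMap (MvPolynomial (Fin N) A) (MvPolynomial (Fin N) A')) q') := by
  constructor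
  · intro h t htf ht hJ
    obtain ⟨t', ht', hdown, hh⟩ := exists_up q' ⟨t, htf⟩ ht
    have htd : PrimeSpectrum.comap (algebraMap (MvPolynomial (Fin N) A) (MvPolynomial (Fin N) A')) t'.1 = t :=
      congrArg Subtype.val hdown
    subst htd
    obtain ⟨d, e, -, hd, hd', hcase⟩ := bc_nat (A := A) (A' := A') M t'.1
    rw [hh, hd] at hd'
    have he : d = d + e := by exact_mod_cast hd'
    have h1 := h t'.1 t'.2 ht' (by
      rintro _ ⟨j, hj, rfl⟩
      exact (X_mem_comap_iff j t'.1).1 (hJ ⟨j, hj, rfl⟩))
    rcases hcase with ⟨-, -, -, hdd⟩ | ⟨D, a, -, -, h', hdd⟩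
    · rw [hdd]; exact le_top
    · rw [hdd]
      rw [h'] at h1
      dsimp only at h1 ⊢
      have : n ≤ a + e := by exact_mod_cast h1
      exact_mod_cast (show n ≤ a by omega)
  · intro h t' htf ht' hJ
    have h1 := h (PrimeSpectrum.comap (algebraMap (MvPolynomial (Fin N) A) (MvPolynomial (Fin N) A')) t')
      ((comap_comap_bc t').trans ((congrArg _ htf).trans (comap_comap_bc q').symm)) (Ideal.comap_mono ht') (by
        rintro _ ⟨j, hj, rfl⟩
        exact (X_mem_comap_iff j t').2 (hJ ⟨j, hj, rfl⟩))
    obtain ⟨d, e, -, -, -, hcase⟩ := bc_nat (A := A) (A' := A') M t'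
    rcases hcase with ⟨-, -, h', -⟩ | ⟨D, a, -, -, h', hdd⟩
    · rw [h']; exact le_top
    · rw [h']
      rw [hdd] at h1
      dsimp only at h1 ⊢
      have : n ≤ a := by exact_mod_cast h1
      exact_mod_cast (show n ≤ a + e by omega)

end BC

theorem good_DA {N : ℕ} (S : Set (Fin N)) (n : ℕ) :
    BCGood.{u} (N := N) (fun A _ M _ _ q => DA A M (MvPolynomial.X '' S) n q) where
  congr A _ M M' _ _ _ _ e q := forall₄_congr fun t _ _ _ => by
    rw [dd_congr_equiv (A := A) e t.asIdeal]
  bc A A' _ _ _ M _ _ _ q' := DA_bc M S n q'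
  isOpen A _ M _ _ _ _ _ _ := isOpen_DA_poly M _ n

section Surj

variable {A P B : Type u} [CommRing A] [CommRing P] [CommRing B] [Algebra A B] [Algebra A P] [Algebra P B]
  [IsScalarTower A P B] (hf : Function.Surjective (algebraMap P B))
  (M : Type u) [AddCommGroup M] [Module B M] [Module P M] [IsScalarTower P B M]

include hf

theorem DA_iff_of_surjective (J' : Set P) (J : Set B)
    (hJ : ∀ t : PrimeSpectrum B, J ⊆ t.asIdeal ↔ J' ⊆ (PrimeSpectrum.comap (algebraMap P B) t).asIdeal)
    (n : ℕ) (q : PrimeSpectrum B) :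
    DA A M J' n (PrimeSpectrum.comap (algebraMap P B) q) ↔ DA A M J n q := by
  refine ⟨fun h t htf ht hJt => ?_, fun h t htf ht hJt => ?_⟩
  · have h1 := h (PrimeSpectrum.comap (algebraMap P B) t)
      (((comap_comap_fib t).trans htf).trans (comap_comap_fib q).symm) ((comap_le_comap_iff hf _ _).2 ht)
      ((hJ t).1 hJt)
    rwa [show dd (Localization.AtPrime (PrimeSpectrum.comap (algebraMap P B) t).asIdeal)
        (EGA4.FibLocMod A P (PrimeSpectrum.comap (algebraMap P B) t).asIdeal M) =
      dd (Localization.AtPrime t.asIdeal) (EGA4.FibLocMod A B t.asIdeal M) from dd_surjective hf M t] at h1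
  · by_cases hs : t ∈ Module.support P M
    · obtain ⟨b, hb⟩ := mem_range_of_mem_support hf M t hs
      subst hb
      have h1 := h b (((comap_comap_fib b).symm.trans htf).trans (comap_comap_fib q))
        ((comap_le_comap_iff hf _ _).1 ht) ((hJ b).2 hJt)
      rwa [show dd (Localization.AtPrime (PrimeSpectrum.comap (algebraMap P B) b).asIdeal)
          (EGA4.FibLocMod A P (PrimeSpectrum.comap (algebraMap P B) b).asIdeal M) =
        dd (Localization.AtPrime b.asIdeal) (EGA4.FibLocMod A B b.asIdeal M) from dd_surjective hf M b]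
    · rw [dd_of_notMem_support t hs]; exact le_top

end Surj

section Affine

variable {A B : Type u} [CommRing A] [CommRing B] [Algebra A B] [Algebra.FinitePresentation A B]
  (M : Type u) [AddCommGroup M] [Module B M] [Module.FinitePresentation B M]

theorem isOpen_DA [Module A M] [IsScalarTower A B M] [Module.Flat A M] (J : Set B) (n : ℕ) :
    IsOpen {q : PrimeSpectrum B | DA A M J n q} := by
  obtain ⟨k, iB, iM, h1, h2, h3, hf, hfp⟩ := exists_presentation (A := A) (B := B) M
  convert (isOpen_DA_poly M (algebraMap (MvPolynomial (Fin k) A) B ⁻¹' J) n).preimage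
    (PrimeSpectrum.continuous_comap (algebraMap (MvPolynomial (Fin k) A) B)) using 1
  ext q
  refine (DA_iff_of_surjective (A := A) (P := MvPolynomial (Fin k) A) hf M _ J (fun t => ⟨fun h x hx => h hx,
    fun h b hb => ?_⟩) n q).symm
  obtain ⟨x, rfl⟩ := hf b
  exact h hb

/-- A presentation in which finitely many given elements are images of variables. -/
theorem exists_presentation_with {m : ℕ} (s : Fin m → B) :
    ∃ (N : ℕ) (S : Set (Fin N)) (_ : Algebra (MvPolynomial (Fin N) A) B) (_ : Module (MvPolynomial (Fin N) A) M)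
      (_ : IsScalarTower A (MvPolynomial (Fin N) A) B) (_ : IsScalarTower (MvPolynomial (Fin N) A) B M),
      Function.Surjective (algebraMap (MvPolynomial (Fin N) A) B) ∧
        Module.FinitePresentation (MvPolynomial (Fin N) A) M ∧
        algebraMap (MvPolynomial (Fin N) A) B '' (MvPolynomial.X '' S) = Set.range s := by
  obtain ⟨k, f₀, hf₀, -⟩ := Algebra.FinitePresentation.out (R := A) (A := B)
  let v : Fin (k + m) → B := Fin.append (fun i => f₀ (MvPolynomial.X i)) s
  let f : MvPolynomial (Fin (k + m)) A →ₐ[A] B := MvPolynomial.aeval v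
  have hfac : f.comp (MvPolynomial.rename (Fin.castAdd m)) = f₀ :=
    MvPolynomial.algHom_ext fun i => by simp [f, v]
  have hf : Function.Surjective f := fun b => by
    obtain ⟨p, rfl⟩ := hf₀ b
    exact ⟨MvPolynomial.rename (Fin.castAdd m) p, congrArg (fun g : MvPolynomial (Fin k) A →ₐ[A] B => g p) hfac⟩
  have hker := Algebra.FinitePresentation.ker_fG_of_surjective f hf
  letI : Algebra (MvPolynomial (Fin (k + m)) A) B := f.toRingHom.toAlgebra
  haveI h1 : IsScalarTower A (MvPolynomial (Fin (k + m)) A) B :=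
    IsScalarTower.of_algebraMap_eq fun a => (f.commutes a).symm
  letI iM : Module (MvPolynomial (Fin (k + m)) A) M := Module.compHom M f.toRingHom
  haveI h2 : IsScalarTower (MvPolynomial (Fin (k + m)) A) B M := IsScalarTower.of_algebraMap_smul fun _ _ => rfl
  haveI : Module.FinitePresentation (MvPolynomial (Fin (k + m)) A) B :=
    Module.finitePresentation_of_surjective (Algebra.linearMap (MvPolynomial (Fin (k + m)) A) B) hf (by
      rwa [show LinearMap.ker (Algebra.linearMap (MvPolynomial (Fin (k + m)) A) B) = RingHom.ker f.toRingHom from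
        Submodule.ext fun _ => Iff.rfl])
  refine ⟨k + m, Set.range (Fin.natAdd k), inferInstance, iM, h1, h2, hf,
    Module.FinitePresentation.trans (MvPolynomial (Fin (k + m)) A) M B, ?_⟩
  rw [← Set.range_comp, ← Set.range_comp]
  congr 1
  funext i
  show f (MvPolynomial.X (Fin.natAdd k i)) = s i
  simp [f, v]

theorem isConstructible_DA {m : ℕ} (s : Fin m → B) (n : ℕ) :
    IsConstructible {q : PrimeSpectrum B | DA A M (Set.range s) n q} := by
  obtain ⟨N, S, iB, iM, h1, h2, hf, hfp, hS⟩ := exists_presentation_with (A := A) M s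
  convert isConstructible_preimage_comap (B := B) ((good_DA S n).isConstructible (A := A) M) using 1
  ext q
  exact (DA_iff_of_surjective (A := A) (P := MvPolynomial (Fin N) A) hf M _ (Set.range s)
    (fun t => by rw [← hS, Set.image_subset_iff]; rfl) n q).symm

/-- Above some bound the depth of the fibres is infinite. -/
theorem exists_bound : ∃ N : ℕ, ∀ t : PrimeSpectrum B, ∀ n : ℕ, N < n →
    (n : ℕ∞) ≤ (dd (Localization.AtPrime t.asIdeal) (EGA4.FibLocMod A B t.asIdeal M)).2 →
      (dd (Localization.AtPrime t.asIdeal) (EGA4.FibLocMod A B t.asIdeal M)).2 = ⊤ := by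
  obtain ⟨N, iB, iM, h1, h2, hf, hfp⟩ := exists_presentation' (A := A) (B := B) M
  refine ⟨N, fun t n hn h => ?_⟩
  rw [← show dd (Localization.AtPrime (PrimeSpectrum.comap (algebraMap (MvPolynomial (Fin N) A) B) t).asIdeal)
      (EGA4.FibLocMod A (MvPolynomial (Fin N) A) (PrimeSpectrum.comap (algebraMap (MvPolynomial (Fin N) A) B) t).asIdeal M) =
    dd (Localization.AtPrime t.asIdeal) (EGA4.FibLocMod A B t.asIdeal M) from dd_surjective hf M t] at h ⊢
  exact dd_snd_cases M _ n hn h

end Affine

end Groth.Agent.DepthAlong6
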